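/-
Products of two conjugates inside a Borel subgroup of a Suzuki group.
-/
import Cfsg.Agent.Lib.Suzuki.Aut
import Cfsg.Agent.Lib.Suzuki.Fixed
import Mathlib.GroupTheory.Coset.Basic

namespace CfsgLib.Suzuki.ClassSquares

open Cfsg CfsgLib.Suzuki

variable {F : Type*} [Field F] [Fintype F] {m : ℕ} (hF : Fintype.card F = 2 ^ (2 * m + 1))

set_option quotPrecheck false in
local notation "𝔾" => ↥(Cfsg.Sz F m)

/-- `g` is a product of two conjugates of `x`. -/
def Sq {G : Type*} [Group G] (x g : G) : Prop := ∃ u v : G, g = u * x * u⁻¹ * (v * x * v⁻¹)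

theorem Sq.conj_left {G : Type*} [Group G] {x g : G} (h : Sq x g) (c : G) : Sq (c * x * c⁻¹) g := by
  obtain ⟨u, v, rfl⟩ := h
  exact ⟨u * c⁻¹, v * c⁻¹, by group⟩

theorem Sq.conj_right {G : Type*} [Group G] {x g : G} (h : Sq x g) (c : G) : Sq x (c * g * c⁻¹) := by
  obtain ⟨u, v, rfl⟩ := h
  exact ⟨c * u, c * v, by group⟩

include hF

/-- The additive map governing conjugation inside the Sylow 2-subgroup. -/
noncomputable def L (a : F) : F →+ F :=
  AddMonoidHom.mk' (fun r => th m r * a + th m a * r) fun r s => by rw [th_add hF]; ring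

theorem L_def (a r : F) : L hF a r = th m r * a + th m a * r := rfl

theorem L_scale (a s : F) : L hF a (a * s) = th m a * a * L hF 1 s := by
  simp only [L_def, th_mul, th_one]; ring

theorem L_one_ker {s : F} : L hF 1 s = 0 ↔ s = 0 ∨ s = 1 := by
  rw [L_def, th_one, mul_one, one_mul, ← sub_eq hF, sub_eq_zero]
  refine ⟨fun h => ?_, fun h => by rcases h with rfl | rfl <;> simp⟩
  by_contra hne
  rw [not_or] at hne
  exact th_ne_self hF hne.1 hne.2 h

theorem card_ker_range : 2 * Nat.card (L hF (1 : F)).range = Fintype.card F := by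
  classical
  have hk : Nat.card (L hF (1 : F)).ker = 2 := by
    rw [Nat.card_eq_two_iff]
    refine ⟨⟨0, (L hF (1 : F)).ker.zero_mem⟩, ⟨1, (L_one_ker hF).mpr (Or.inr rfl)⟩,
      fun h => zero_ne_one (congrArg Subtype.val h), ?_⟩
    ext ⟨x, hx⟩
    simpa [Subtype.ext_iff] using (L_one_ker hF).mp hx
  have h1 := AddSubgroup.card_eq_card_quotient_mul_card_addSubgroup (L hF (1 : F)).ker
  rw [hk, Nat.card_congr (QuotientAddGroup.quotientKerEquivRange (L hF (1 : F))).toEquiv,
    Nat.card_eq_fintype_card] at h1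
  omega

/-- Only the identity scales the image of `L 1` into itself. -/
theorem stab_trivial (hm : 1 ≤ m) {c : Fˣ}
    (h : ∀ v ∈ (L hF (1 : F)).range, (c : F) * v ∈ (L hF (1 : F)).range) : c = 1 := by
  classical
  set H := (L hF (1 : F)).range with hH
  set S : Set Fˣ := {x | (x : F) ∈ H} with hS
  set C := Subgroup.zpowers c with hC
  have hcard : Nat.card S + 1 = Nat.card H := by
    have hne : Nat.card S = Nat.card {v : H // v ≠ 0} := Nat.card_congr
      { toFun := fun x => ⟨⟨x.1, x.2⟩, fun e => x.1.ne_zero (congrArg Subtype.val e)⟩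
        invFun := fun v => ⟨Units.mk0 v.1.1 fun e => v.2 (Subtype.ext e), v.1.2⟩
        left_inv := fun x => Subtype.ext (Units.ext rfl)
        right_inv := fun v => rfl }
    have : Fintype H := Fintype.ofFinite _
    rw [hne, Nat.card_eq_fintype_card, Nat.card_eq_fintype_card, Fintype.card_subtype_compl,
      Fintype.card_subtype_eq]
    have : 0 < Fintype.card H := Fintype.card_pos
    omega
  have hstable : ∀ x ∈ S, ∀ k : ℕ, x * c ^ k ∈ S := by
    intro x hx k
    induction k with
    | zero => simpa using hx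
    | succ k ih =>
      show ((x * c ^ (k + 1) : Fˣ) : F) ∈ H
      rw [show x * c ^ (k + 1) = c * (x * c ^ k) by rw [pow_succ]; ac_rfl, Units.val_mul]
      exact h _ ih
  have hpre : S = QuotientGroup.mk ⁻¹' (QuotientGroup.mk (s := C) '' S) := by
    refine Set.Subset.antisymm (Set.subset_preimage_image _ _) ?_
    rintro y ⟨x, hx, hxy⟩
    obtain ⟨k, hk⟩ := mem_powers_iff_mem_zpowers.mpr (QuotientGroup.eq.mp hxy)
    simp only at hk
    have := hstable x hx k
    rwa [hk, mul_inv_cancel_left] at this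
  have hdiv : orderOf c ∣ Nat.card S := by
    rw [hpre, Nat.card_congr (QuotientGroup.preimageMkEquivSubgroupProdSet C _), Nat.card_prod,
      hC, Nat.card_zpowers]
    exact dvd_mul_right _ _
  have hdiv2 : orderOf c ∣ Fintype.card F - 1 := by
    rw [← Fintype.card_units]; exact orderOf_dvd_card
  have hq := card_ker_range hF
  rw [← hH] at hq
  have heq : Fintype.card F - 1 = 2 * Nat.card S + 1 := by omega
  rw [heq, Nat.dvd_add_right (hdiv.mul_left 2), Nat.dvd_one, orderOf_eq_one_iff] at hdiv2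
  exact hdiv2

theorem range_index (v : F) (hv : v ≠ 0) (H : AddSubgroup F)
    (hH : H = (L hF (1 : F)).range.map (AddMonoidHom.mulLeft v)) :
    2 * Nat.card H = Fintype.card F := by
  subst hH
  rw [← card_ker_range hF,
    ← Nat.card_congr ((L hF (1 : F)).range.equivMapOfInjective _ (mul_right_injective₀ hv)).toEquiv]

/-- Two different scalings of the image generate everything. -/
theorem sum_surj (hm : 1 ≤ m) {a a' : F} (ha : a ≠ 0) (ha' : a' ≠ 0) (hne : a ≠ a') (e : F) :
    ∃ r r', L hF a r + L hF a' r' = e := by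
  classical
  set H := (L hF (1 : F)).range with hH
  set A := H.map (AddMonoidHom.mulLeft (th m a * a)) with hA
  set B := H.map (AddMonoidHom.mulLeft (th m a' * a')) with hB
  have hva : th m a * a ≠ 0 := mul_ne_zero (fun h => ha (th_eq_zero_iff.mp h)) ha
  have hva' : th m a' * a' ≠ 0 := mul_ne_zero (fun h => ha' (th_eq_zero_iff.mp h)) ha'
  have cA := range_index hF _ hva A rfl
  have cB := range_index hF _ hva' B rfl
  have htop : A ⊔ B = ⊤ := by
    by_contra hne'
    have h1 := AddSubgroup.card_dvd_of_le (show A ≤ A ⊔ B from le_sup_left)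
    have h2 : Nat.card ↥(A ⊔ B) ∣ Nat.card F := AddSubgroup.card_addSubgroup_dvd_card _
    rw [Nat.card_eq_fintype_card (α := F), ← cA] at h2
    obtain ⟨i, hi⟩ := h1
    obtain ⟨j, hj⟩ := h2
    have hApos : 0 < Nat.card A := Nat.card_pos
    rw [hi, mul_assoc, mul_comm 2] at hj
    have hij : i * j = 2 := (Nat.eq_of_mul_eq_mul_left hApos hj).symm
    rcases (Nat.dvd_prime Nat.prime_two).mp ⟨j, hij.symm⟩ with rfl | rfl
    · have hAB : A = A ⊔ B := AddSubgroup.eq_of_le_of_card_ge le_sup_left (by omega)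
      have hBA : B ≤ A := hAB ▸ le_sup_right
      set c : Fˣ := Units.mk0 ((th m a' * a') / (th m a * a)) (div_ne_zero hva' hva) with hc
      have hc1 : c = 1 := by
        refine stab_trivial hF hm fun v hv => ?_
        obtain ⟨w, hw, hwe⟩ := hBA ⟨v, hv, rfl⟩
        have : (c : F) * v = w := by
          simp only [AddMonoidHom.coe_mulLeft] at hwe
          rw [hc, Units.val_mk0, div_mul_eq_mul_div, div_eq_iff hva, ← hwe, mul_comm]
        rw [this]; exact hw
      have he : th m a' * a' = th m a * a := by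
        have := congrArg Units.val hc1
        rwa [hc, Units.val_mk0, Units.val_one, div_eq_one_iff_eq hva] at this
      have hr : th m (a' / a) * (a' / a) = 1 := by
        rw [th_div, div_mul_div_comm, he, div_self hva]
      have hc2 : a' / a = 1 := by
        have h2 := congrArg (th m) hr
        rw [th_mul, th_th hF, th_one] at h2
        apply eq_one_of_th_sq hF
        rw [mul_comm]; exact h2
      exact hne ((div_eq_one_iff_eq ha).mp hc2).symm
    · refine hne' (AddSubgroup.eq_top_of_card_eq _ ?_)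
      rw [hi, Nat.card_eq_fintype_card (α := F), ← cA, mul_comm]
  have he : e ∈ A ⊔ B := htop ▸ AddSubgroup.mem_top e
  obtain ⟨y, hy, z, hz, rfl⟩ := AddSubgroup.mem_sup.mp he
  obtain ⟨_, ⟨s, rfl⟩, rfl⟩ := hy
  obtain ⟨_, ⟨s', rfl⟩, rfl⟩ := hz
  exact ⟨a * s, a' * s', by rw [L_scale, L_scale]; rfl⟩

/-- Elements of order four cover all unipotent elements. -/
theorem sq_U_U (hm : 1 ≤ m) {a b d e : F} (ha : a ≠ 0) (hg : d ≠ 0 ∨ e ≠ 0) :
    Sq (uS hF a b) (uS hF d e) := by
  classical
  by_cases hd : d = 0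
  · subst hd
    have he : e ≠ 0 := hg.resolve_left fun h => h rfl
    have hva : th m a * a ≠ 0 := mul_ne_zero (fun h => ha (th_eq_zero_iff.mp h)) ha
    let f : Fˣ →* Fˣ :=
      { toFun := fun t => Units.mk0 (th m (t : F) * (t : F) ^ 2)
          (mul_ne_zero (fun h => t.ne_zero (th_eq_zero_iff.mp h)) (pow_ne_zero _ t.ne_zero))
        map_one' := Units.ext (by simp)
        map_mul' := fun s t => Units.ext (by simp only [Units.val_mul, Units.val_mk0, th_mul]; ring) }
    have hf : Function.Bijective f := Finite.injective_iff_bijective.mp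
      ((injective_iff_map_eq_one f).mpr fun t ht =>
        Units.ext (eq_one_of_th_sq hF (congrArg Units.val ht)))
    obtain ⟨t, ht⟩ := hf.2 (Units.mk0 (e / (th m a * a)) (div_ne_zero he hva))
    have ht' : th m (t : F) * (t : F) ^ 2 = e / (th m a * a) := congrArg Units.val ht
    set c := uS hF 0 0 * dS hF t with hc
    refine ⟨c, c, ?_⟩
    have : c * (uS hF a b * uS hF a b) * c⁻¹ = uS hF 0 e := by
      rw [uS_sq, hc, conj_uS_zero, ht', div_mul_cancel₀ _ hva]
    rw [← this]; group
  · obtain ⟨x, hx0, hx1⟩ := exists_not_zero_one hF hm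
    set a1 := x * d with ha1
    have h1 : a1 ≠ 0 := mul_ne_zero hx0 hd
    set a2 := d + a1 with ha2
    have h2 : a2 ≠ 0 := by
      rw [ha2, ← sub_eq hF, sub_ne_zero]
      intro h
      exact hx1 ((mul_eq_right₀ hd).mp h.symm)
    have h12 : a1 ≠ a2 := by
      intro h
      apply hd
      rw [ha2] at h
      linear_combination -h
    obtain ⟨t1, ht1⟩ := (th_bijective hF).2 (a1 / a)
    obtain ⟨t2, ht2⟩ := (th_bijective hF).2 (a2 / a)
    have t10 : t1 ≠ 0 := fun h => div_ne_zero h1 ha (by rw [← ht1, h, th_zero])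
    have t20 : t2 ≠ 0 := fun h => div_ne_zero h2 ha (by rw [← ht2, h, th_zero])
    obtain ⟨r, r', hr⟩ := sum_surj hF hm h1 h2 h12
      (e - th m t1 * t1 ^ 2 * b - th m t2 * t2 ^ 2 * b - th m a1 * a2)
    refine ⟨uS hF r 0 * dS hF (Units.mk0 t1 t10), uS hF r' 0 * dS hF (Units.mk0 t2 t20), ?_⟩
    rw [conj_uS, conj_uS, uS_mul]
    simp only [Units.val_mk0, ht1, ht2, div_mul_cancel₀ _ ha]
    congr 1
    · rw [ha2]; linear_combination (-a1) * two_eq_zero hF
    · simp only [L_def, ht1, ht2] at hr
      linear_combination -hr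

/-- A torus element and a conjugate of its inverse cover the unipotent elements. -/
theorem sq_T_U (hm : 1 ≤ m) {t : Fˣ} (ht : t ≠ 1) (d e : F) : Sq (dS hF t) (uS hF d e) := by
  obtain ⟨c, f, hc⟩ := exists_conj_torus hF hm d e ht
  refine ⟨uS hF c f, wS hF, ?_⟩
  have hw : (wS hF : 𝔾)⁻¹ = wS hF := inv_eq_of_mul_eq_one_right (wS_mul_self hF)
  rw [hc, hw, wS_dS, mul_assoc, dS_mul, mul_inv_cancel, dS_one, mul_one]

theorem card_centralizer_le (hm : 1 ≤ m) {a b : F} (h : uS hF a b ≠ 1) :
    Nat.card (Subgroup.centralizer ({uS hF a b} : Set 𝔾)) ≤ (2 ^ (2 * m + 1)) ^ 2 := by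
  rw [← card_U hF]
  exact Subgroup.card_le_of_le (centralizer_unipotent hF hm ⟨a, b, rfl⟩ h)

theorem card_centralizer_four_le (hm : 1 ≤ m) {a b : F} (ha : a ≠ 0) :
    Nat.card (Subgroup.centralizer ({uS hF a b} : Set 𝔾)) ≤ 2 * 2 ^ (2 * m + 1) := by
  classical
  have h1 : uS hF a b ≠ 1 := fun h => ha (uS_inj hF (h.trans (uS_zero hF).symm)).1
  have key : ∀ x ∈ Subgroup.centralizer ({uS hF a b} : Set 𝔾),
      ∃ p : Bool × F, x = uS hF (if p.1 then a else 0) p.2 := by
    intro x hx
    obtain ⟨r, s, rfl⟩ := centralizer_unipotent hF hm ⟨a, b, rfl⟩ h1 hx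
    rw [Subgroup.mem_centralizer_singleton_iff] at hx
    have h := uS_conj_uS hF r s a b
    rw [hx, mul_inv_cancel_right] at h
    have h0 : L hF a r = 0 := by
      have := (uS_inj hF h).2
      rw [L_def]
      linear_combination -this
    rw [← mul_div_cancel₀ r ha, L_scale, mul_eq_zero] at h0
    rcases h0 with h0 | h0
    · rcases mul_eq_zero.mp h0 with h0 | h0
      · exact absurd (th_eq_zero_iff.mp h0) ha
      · exact absurd h0 ha
    · rcases (L_one_ker hF).mp h0 with h0 | h0
      · exact ⟨(false, s), by simp [(div_eq_zero_iff.mp h0).resolve_right ha]⟩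
      · exact ⟨(true, s), by simp [(div_eq_one_iff_eq ha).mp h0]⟩
  choose p hp using key
  calc Nat.card (Subgroup.centralizer ({uS hF a b} : Set 𝔾)) ≤ Nat.card (Bool × F) := by
        refine Nat.card_le_card_of_injective (fun x => p x.1 x.2) fun x y hxy => Subtype.ext ?_
        rw [hp x.1 x.2, hp y.1 y.2]
        simp only at hxy
        rw [hxy]
    _ = 2 * 2 ^ (2 * m + 1) := by
        rw [Nat.card_prod, Nat.card_eq_fintype_card, Nat.card_eq_fintype_card, Fintype.card_bool, hF]

end CfsgLib.Suzuki.ClassSquares
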