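/-
Character values on unipotent elements of a Suzuki group and the class algebra sum.
-/
import Cfsg.Agent.Lib.Suzuki.Degrees.Main
import Cfsg.Agent.Lib.Suzuki.ClassSquares.Unipotent
import Cfsg.Agent.Lib.CharTheory.Schur
import Cfsg.Agent.Lib.CharTheory.Clifford

set_option maxHeartbeats 1000000

namespace CfsgLib.Suzuki.ClassSquares

open Cfsg CfsgLib.CharTheory CfsgLib.Suzuki CfsgLib.Suzuki.Degrees
open scoped ComplexConjugate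

/-- The class algebra sum. -/
noncomputable def csum {G : Type*} [Group G] [Fintype G] (x g : G) : ℂ :=
  ∑ ψ : IrrCharacter G, (ψ : G → ℂ) x * (ψ : G → ℂ) x * conj ((ψ : G → ℂ) g) / (ψ : G → ℂ) 1

theorem sq_of_csum_ne {G : Type*} [Group G] [Fintype G] {x g : G} (h : csum x g ≠ 0) : Sq x g := by
  classical
  by_contra hn
  simp only [Sq, not_exists] at hn
  apply h
  have hN : (Nat.card G : ℂ) ≠ 0 := Nat.cast_ne_zero.mpr Nat.card_pos.ne'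
  have h1 : ∀ ψ : IrrCharacter G, (ψ : G → ℂ) 1 ≠ 0 := fun ψ => by
    obtain ⟨d, hd, hd'⟩ := irr_degree_pos ψ.2
    rw [hd']; exact Nat.cast_ne_zero.mpr hd.ne'
  have key : ∀ u v : G, ∑ ψ : IrrCharacter G,
      (ψ : G → ℂ) (u * x * u⁻¹ * (v * x * v⁻¹ * g⁻¹)) * conj ((ψ : G → ℂ) 1) = 0 := by
    intro u v
    rw [sum_irr_mul_conj, if_neg]
    intro hc
    rw [isConj_one_left] at hc
    exact hn u v (by rw [← mul_assoc, mul_inv_eq_one] at hc; exact hc.symm)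
  have hsum : ∑ v : G, ∑ u : G, ∑ ψ : IrrCharacter G,
      (ψ : G → ℂ) (u * x * u⁻¹ * (v * x * v⁻¹ * g⁻¹)) * conj ((ψ : G → ℂ) 1) = 0 :=
    Finset.sum_eq_zero fun v _ => Finset.sum_eq_zero fun u _ => key u v
  have hpt : ∀ ψ : IrrCharacter G, ∑ v : G, ∑ u : G,
      (ψ : G → ℂ) (u * x * u⁻¹ * (v * x * v⁻¹ * g⁻¹)) * conj ((ψ : G → ℂ) 1) =
      (Nat.card G : ℂ) ^ 2 * ((ψ : G → ℂ) x * (ψ : G → ℂ) x * conj ((ψ : G → ℂ) g) / (ψ : G → ℂ) 1) := by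
    intro ψ
    obtain ⟨d, hd, hd'⟩ := irr_degree_pos ψ.2
    have hc : conj ((ψ : G → ℂ) 1) = (ψ : G → ℂ) 1 := by rw [hd', map_natCast]
    simp only [← Finset.sum_mul, sum_conj_mul_char ψ.2, hc]
    rw [← Finset.sum_div, ← Finset.mul_sum, ← Finset.mul_sum, sum_conj_mul_char ψ.2,
      char_apply_inv (isCharacter_of_irr ψ.2)]
    field_simp [h1 ψ]
  rw [Finset.sum_congr rfl fun v _ => Finset.sum_comm, Finset.sum_comm, Finset.sum_congr rfl fun ψ _ => hpt ψ,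
    ← Finset.mul_sum, mul_eq_zero] at hsum
  exact hsum.resolve_left (pow_ne_zero 2 hN)

variable {F : Type*} [Field F] [Fintype F] {m : ℕ} (hF : Fintype.card F = 2 ^ (2 * m + 1))

set_option quotPrecheck false in
local notation "𝔾" => ↥(Cfsg.Sz F m)

variable {u : ℕ} (D : Tori (F := F) (m := m) u)

variable [Fintype ↥(Cfsg.Sz F m)] [DecidableEq ↥(Cfsg.Sz F m)] (Tb : Table hF D)

include hF D Tb

theorem one_apply (g : 𝔾) : (Tb.one : 𝔾 → ℂ) g = 1 := by rw [Tb.one_val]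

theorem apply_one_eq {ψ : IrrCharacter 𝔾} {d : ℤ} (h : deg' ψ = d) : (ψ : 𝔾 → ℂ) 1 = (d : ℂ) := by
  rw [(deg'_spec ψ).1, h]

/-- The contribution of a set of characters. -/
noncomputable def part (R : Finset (IrrCharacter 𝔾)) (x g : 𝔾) : ℂ :=
  ∑ ψ ∈ R, (ψ : 𝔾 → ℂ) x * (ψ : 𝔾 → ℂ) x * conj ((ψ : 𝔾 → ℂ) g)

/-- The class algebra sum split along the table. -/
theorem csum_eq (x g : 𝔾) : csum x g =
    1 + (Tb.St : 𝔾 → ℂ) x * (Tb.St : 𝔾 → ℂ) x * conj ((Tb.St : 𝔾 → ℂ) g) / (8 * (u : ℂ) ^ 2) ^ 2 +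
      part Tb.R0 x g / ((8 * (u : ℂ) ^ 2) ^ 2 + 1) +
      part Tb.Rp x g / ((8 * (u : ℂ) ^ 2 - 1) * (8 * (u : ℂ) ^ 2 - 4 * u + 1)) +
      part Tb.Rm x g / ((8 * (u : ℂ) ^ 2 - 1) * (8 * (u : ℂ) ^ 2 + 4 * u + 1)) +
      ((Tb.a : 𝔾 → ℂ) x * (Tb.a : 𝔾 → ℂ) x * conj ((Tb.a : 𝔾 → ℂ) g) +
        (Tb.b : 𝔾 → ℂ) x * (Tb.b : 𝔾 → ℂ) x * conj ((Tb.b : 𝔾 → ℂ) g)) /
        (2 * (u : ℂ) * (8 * (u : ℂ) ^ 2 - 1)) := by
  rw [csum, Tb.split]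
  simp only [part]
  rw [apply_one_eq hF D Tb Tb.done', apply_one_eq hF D Tb Tb.dSt,
    apply_one_eq hF D Tb (Tb.dO Tb.a (Or.inl rfl)), apply_one_eq hF D Tb (Tb.dO Tb.b (Or.inr rfl))]
  rw [Finset.sum_congr (s₁ := Tb.R0) rfl fun ψ h => by rw [apply_one_eq hF D Tb (Tb.d0 ψ h)],
    Finset.sum_congr (s₁ := Tb.Rp) rfl fun ψ h => by rw [apply_one_eq hF D Tb (Tb.dp ψ h)],
    Finset.sum_congr (s₁ := Tb.Rm) rfl fun ψ h => by rw [apply_one_eq hF D Tb (Tb.dm ψ h)]]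
  simp only [one_apply hF D Tb, map_one, mul_one, ← Finset.sum_div]
  push_cast
  ring

/-- The second orthogonality relation split along the table. -/
theorem col (x y : 𝔾) [Decidable (IsConj x y)] :
    1 + (Tb.St : 𝔾 → ℂ) x * conj ((Tb.St : 𝔾 → ℂ) y) +
      ∑ ψ ∈ Tb.R0, (ψ : 𝔾 → ℂ) x * conj ((ψ : 𝔾 → ℂ) y) +
      ∑ ψ ∈ Tb.Rp, (ψ : 𝔾 → ℂ) x * conj ((ψ : 𝔾 → ℂ) y) +
      ∑ ψ ∈ Tb.Rm, (ψ : 𝔾 → ℂ) x * conj ((ψ : 𝔾 → ℂ) y) +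
      ((Tb.a : 𝔾 → ℂ) x * conj ((Tb.a : 𝔾 → ℂ) y) + (Tb.b : 𝔾 → ℂ) x * conj ((Tb.b : 𝔾 → ℂ) y)) =
    if IsConj x y then (Nat.card (Subgroup.centralizer ({x} : Set 𝔾)) : ℂ) else 0 := by
  rw [← sum_irr_mul_conj x y, Tb.split]
  simp only [one_apply hF D Tb, map_one, mul_one]

omit Tb in
theorem mem_conjSet_of_punct {K : Subgroup 𝔾} {k : 𝔾} (h : k ∈ punct K) : k ∈ conjSet K :=
  ⟨(mem_punct.mp h).2, 1, by simpa using (mem_punct.mp h).1⟩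

omit Tb in
theorem unip_not_conj {K : Subgroup 𝔾} (hc : (Nat.card (U hF)).Coprime (Nat.card K)) {g k : 𝔾}
    (hg : g ∈ conjSet (U hF)) (hk : k ∈ punct K) : ¬ IsConj g k := by
  intro h
  obtain ⟨c, rfl⟩ := isConj_iff.mp h
  obtain ⟨hg1, w, hw⟩ := hg
  refine disjoint_of_coprime hF D hc ⟨(mem_punct.mp hk).2, c * w, ?_⟩ (mem_conjSet_of_punct hF D hk)
  have e : (c * w)⁻¹ * (c * g * c⁻¹) * (c * w) = w⁻¹ * g * w := by group
  rw [e]; exact hw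

omit Tb in
theorem unip_not_mem {g : 𝔾} (hg : g ∈ conjSet (U hF)) :
    g ∉ conjSet (T hF) ∧ g ∉ conjSet D.Ap ∧ g ∉ conjSet D.Am := by
  obtain ⟨c1, c2, c3, -⟩ := coprimes hF D
  exact ⟨disjoint_of_coprime hF D c1 hg, disjoint_of_coprime hF D c2 hg, disjoint_of_coprime hF D c3 hg⟩

/-- The values on a unipotent element. -/
theorem unip_values {g : 𝔾} (hg : g ∈ conjSet (U hF)) :
    (∀ ψ ∈ Tb.R0, (ψ : 𝔾 → ℂ) g = 1) ∧
      (∀ ψ ∈ Tb.Rp, (ψ : 𝔾 → ℂ) g = -1 - ((Tb.a : 𝔾 → ℂ) g + (Tb.b : 𝔾 → ℂ) g)) ∧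
      (∀ ψ ∈ Tb.Rm, (ψ : 𝔾 → ℂ) g = ((Tb.a : 𝔾 → ℂ) g + (Tb.b : 𝔾 → ℂ) g) - 1) := by
  classical
  obtain ⟨c1, c2, c3, -⟩ := coprimes hF D
  obtain ⟨kT2, kp2, km2⟩ := card_ge hF D
  obtain ⟨n1, n2, n3⟩ := unip_not_mem hF D hg
  refine ⟨fun φ hφ => ?_, fun φ hφ => ?_, fun φ hφ => ?_⟩
  · obtain ⟨k, hk⟩ := punct_nonempty kT2
    have h := col hF D Tb g k
    rw [if_neg (unip_not_conj hF D c1 hg hk), Tb.StU g hg, zero_mul, add_zero,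
      Finset.sum_eq_zero (s := Tb.Rp) fun ψ hψ => by rw [Tb.zT ψ (Or.inl hψ) k hk]; simp,
      Finset.sum_eq_zero (s := Tb.Rm) fun ψ hψ => by rw [Tb.zT ψ (Or.inr (Or.inl hψ)) k hk]; simp,
      Tb.zT Tb.a (Or.inr (Or.inr (Or.inl rfl))) k hk, Tb.zT Tb.b (Or.inr (Or.inr (Or.inr rfl))) k hk,
      Finset.sum_congr (s₁ := Tb.R0) rfl fun ψ hψ => by rw [Tb.const0 ψ hψ φ hφ g n1],
      ← Finset.mul_sum, ← map_sum, Tb.sum0 k hk] at h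
    simp only [Int.cast_zero, map_zero, mul_zero, add_zero, map_neg, map_one] at h
    linear_combination -h
  · obtain ⟨k, hk⟩ := punct_nonempty kp2
    have h := col hF D Tb g k
    rw [if_neg (unip_not_conj hF D c2 hg hk), Tb.StU g hg, zero_mul, add_zero,
      Finset.sum_eq_zero (s := Tb.R0) fun ψ hψ => by rw [Tb.zP ψ (Or.inl hψ) k hk]; simp,
      Finset.sum_eq_zero (s := Tb.Rm) fun ψ hψ => by rw [Tb.zP ψ (Or.inr hψ) k hk]; simp,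
      Tb.OP Tb.a (Or.inl rfl) k hk, Tb.OP Tb.b (Or.inr rfl) k hk,
      Finset.sum_congr (s₁ := Tb.Rp) rfl fun ψ hψ => by rw [Tb.constp ψ hψ φ hφ g n2],
      ← Finset.mul_sum, ← map_sum, Tb.sump k hk] at h
    simp only [Int.cast_one, map_one, mul_one, add_zero] at h
    linear_combination h
  · obtain ⟨k, hk⟩ := punct_nonempty km2
    have h := col hF D Tb g k
    rw [if_neg (unip_not_conj hF D c3 hg hk), Tb.StU g hg, zero_mul, add_zero,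
      Finset.sum_eq_zero (s := Tb.R0) fun ψ hψ => by rw [Tb.zM ψ (Or.inl hψ) k hk]; simp,
      Finset.sum_eq_zero (s := Tb.Rp) fun ψ hψ => by rw [Tb.zM ψ (Or.inr hψ) k hk]; simp,
      Tb.OM Tb.a (Or.inl rfl) k hk, Tb.OM Tb.b (Or.inr rfl) k hk,
      Finset.sum_congr (s₁ := Tb.Rm) rfl fun ψ hψ => by rw [Tb.constm ψ hψ φ hφ g n3],
      ← Finset.mul_sum, ← map_sum, Tb.summ k hk] at h
    simp only [Int.cast_neg, Int.cast_one, map_neg, map_one, mul_one, add_zero] at h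
    linear_combination h

/-- The norm relation on a unipotent element. -/
theorem unip_norm {g : 𝔾} (hg : g ∈ conjSet (U hF)) :
    4 * (u : ℝ) ^ 2 + (2 * (u : ℝ) ^ 2 + u) * Complex.normSq (1 + ((Tb.a : 𝔾 → ℂ) g + (Tb.b : 𝔾 → ℂ) g)) +
      (2 * (u : ℝ) ^ 2 - u) * Complex.normSq (((Tb.a : 𝔾 → ℂ) g + (Tb.b : 𝔾 → ℂ) g) - 1) +
      Complex.normSq ((Tb.a : 𝔾 → ℂ) g) + Complex.normSq ((Tb.b : 𝔾 → ℂ) g) =
    (Nat.card (Subgroup.centralizer ({g} : Set 𝔾)) : ℝ) := by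
  classical
  obtain ⟨v0, vp, vm⟩ := unip_values hF D Tb hg
  set s := (Tb.a : 𝔾 → ℂ) g + (Tb.b : 𝔾 → ℂ) g with hs
  have h := col hF D Tb g g
  rw [if_pos (IsConj.refl _), Tb.StU g hg, zero_mul, add_zero,
    Finset.sum_congr (s₁ := Tb.R0) rfl fun ψ hψ => by rw [v0 ψ hψ],
    Finset.sum_congr (s₁ := Tb.Rp) rfl fun ψ hψ => by rw [vp ψ hψ],
    Finset.sum_congr (s₁ := Tb.Rm) rfl fun ψ hψ => by rw [vm ψ hψ],
    Finset.sum_const, Finset.sum_const, Finset.sum_const, nsmul_eq_mul, nsmul_eq_mul, nsmul_eq_mul,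
    map_one, mul_one, mul_one, Complex.mul_conj, Complex.mul_conj, Complex.mul_conj, Complex.mul_conj] at h
  have c0 := congrArg (Int.cast : ℤ → ℂ) Tb.n0
  have cp := congrArg (Int.cast : ℤ → ℂ) Tb.np
  have cm := congrArg (Int.cast : ℤ → ℂ) Tb.nm
  push_cast at c0 cp cm
  rw [c0, cp, cm] at h
  have e1 : Complex.normSq (1 + s) = Complex.normSq (-1 - s) := by
    rw [← Complex.normSq_neg]; congr 1; ring
  rw [e1]
  apply Complex.ofReal_injective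
  push_cast
  linear_combination h

omit Tb in
theorem normSq_le {R : Finset (IrrCharacter 𝔾)} {k : 𝔾} {c : ℝ}
    (h : ∑ ψ ∈ R, (ψ : 𝔾 → ℂ) k * conj ((ψ : 𝔾 → ℂ) k) = (c : ℂ)) :
    ∑ ψ ∈ R, Complex.normSq ((ψ : 𝔾 → ℂ) k) = c ∧ ∀ ψ ∈ R, Complex.normSq ((ψ : 𝔾 → ℂ) k) ≤ c := by
  have hsum : ∑ ψ ∈ R, Complex.normSq ((ψ : 𝔾 → ℂ) k) = c := by
    apply Complex.ofReal_injective
    rw [← h, Complex.ofReal_sum]
    exact Finset.sum_congr rfl fun ψ _ => (Complex.mul_conj _).symm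
  refine ⟨hsum, fun ψ hψ => ?_⟩
  rw [← hsum]
  exact Finset.single_le_sum (s := R) (f := fun φ : IrrCharacter 𝔾 => Complex.normSq ((φ : 𝔾 → ℂ) k))
    (fun φ _ => Complex.normSq_nonneg _) hψ

/-- A family contribution with both arguments on the same torus is small. -/
theorem part_bound {R : Finset (IrrCharacter 𝔾)} {x g : 𝔾} {c t : ℝ} (ht : 0 < t)
    (hx : ∑ ψ ∈ R, (ψ : 𝔾 → ℂ) x * conj ((ψ : 𝔾 → ℂ) x) = (c : ℂ))
    (hg : ∑ ψ ∈ R, (ψ : 𝔾 → ℂ) g * conj ((ψ : 𝔾 → ℂ) g) = (c : ℂ)) :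
    ‖part R x g‖ ≤ c * ((t ^ 2 + c) / (2 * t)) := by
  obtain ⟨sx, -⟩ := normSq_le hF D hx
  obtain ⟨-, bg⟩ := normSq_le hF D hg
  rw [part]
  refine (norm_sum_le _ _).trans ?_
  calc _ ≤ ∑ ψ ∈ R, Complex.normSq ((ψ : 𝔾 → ℂ) x) * ((t ^ 2 + c) / (2 * t)) := by
        refine Finset.sum_le_sum fun ψ hψ => ?_
        rw [norm_mul, norm_mul, Complex.norm_conj, ← sq, ← Complex.normSq_eq_norm_sq]
        refine mul_le_mul_of_nonneg_left ?_ (Complex.normSq_nonneg _)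
        rw [le_div_iff₀ (by linarith)]
        have := bg ψ hψ
        rw [Complex.normSq_eq_norm_sq] at this
        nlinarith [sq_nonneg (t - ‖(ψ : 𝔾 → ℂ) g‖)]
    _ = _ := by rw [← Finset.sum_mul, sx]

end CfsgLib.Suzuki.ClassSquares
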