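/-
Non-vanishing of the class algebra sum in a Suzuki group.
-/
import Cfsg.Agent.Lib.Suzuki.ClassSquares.Values

set_option maxHeartbeats 1000000

namespace CfsgLib.Suzuki.ClassSquares

open Cfsg CfsgLib.CharTheory CfsgLib.Suzuki CfsgLib.Suzuki.Degrees
open scoped ComplexConjugate

variable {F : Type*} [Field F] [Fintype F] {m : ℕ} (hF : Fintype.card F = 2 ^ (2 * m + 1))

set_option quotPrecheck false in
local notation "𝔾" => ↥(Cfsg.Sz F m)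

variable {u : ℕ} (D : Tori (F := F) (m := m) u)

variable [Fintype ↥(Cfsg.Sz F m)] [DecidableEq ↥(Cfsg.Sz F m)] (Tb : Table hF D)

theorem one_add_ne {z : ℂ} (h : ‖z‖ < 1) : 1 + z ≠ 0 := by
  intro e
  rw [show z = -1 by linear_combination e, norm_neg, norm_one] at h
  exact lt_irrefl _ h

theorem one_add_ne_real {r : ℝ} (h : 0 < 1 + r) : 1 + (r : ℂ) ≠ 0 := by
  rw [show (1 : ℂ) + (r : ℂ) = ((1 + r : ℝ) : ℂ) by push_cast; rfl]
  exact Complex.ofReal_ne_zero.mpr h.ne'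

include hF D Tb

omit Tb in
theorem uR : (1 : ℝ) ≤ u := by exact_mod_cast hu1 hF D

theorem cardR : (Nat.card (T hF) : ℝ) = 8 * (u : ℝ) ^ 2 - 1 ∧
    (Nat.card D.Ap : ℝ) = 8 * (u : ℝ) ^ 2 + 4 * u + 1 ∧
    (Nat.card D.Am : ℝ) = 8 * (u : ℝ) ^ 2 - 4 * u + 1 := by
  have a := congrArg (Int.cast : ℤ → ℝ) (kT hF D)
  have b := congrArg (Int.cast : ℤ → ℝ) D.kp
  have c := congrArg (Int.cast : ℤ → ℝ) D.km
  push_cast at a b c
  exact ⟨a, b, c⟩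

theorem StT_val {k : 𝔾} (h : k ∈ punct (T hF)) : (Tb.St : 𝔾 → ℂ) k = 1 := by
  simpa using Tb.StT k h

theorem StP_val {k : 𝔾} (h : k ∈ punct D.Ap) : (Tb.St : 𝔾 → ℂ) k = -1 := by
  simpa using Tb.StP k h

theorem StM_val {k : 𝔾} (h : k ∈ punct D.Am) : (Tb.St : 𝔾 → ℂ) k = -1 := by
  simpa using Tb.StM k h

theorem O_T {k : 𝔾} (h : k ∈ punct (T hF)) : (Tb.a : 𝔾 → ℂ) k = 0 ∧ (Tb.b : 𝔾 → ℂ) k = 0 :=
  ⟨by simpa using Tb.zT Tb.a (Or.inr (Or.inr (Or.inl rfl))) k h,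
    by simpa using Tb.zT Tb.b (Or.inr (Or.inr (Or.inr rfl))) k h⟩

theorem O_P {k : 𝔾} (h : k ∈ punct D.Ap) : (Tb.a : 𝔾 → ℂ) k = 1 ∧ (Tb.b : 𝔾 → ℂ) k = 1 :=
  ⟨by simpa using Tb.OP Tb.a (Or.inl rfl) k h, by simpa using Tb.OP Tb.b (Or.inr rfl) k h⟩

theorem O_M {k : 𝔾} (h : k ∈ punct D.Am) : (Tb.a : 𝔾 → ℂ) k = -1 ∧ (Tb.b : 𝔾 → ℂ) k = -1 :=
  ⟨by simpa using Tb.OM Tb.a (Or.inl rfl) k h, by simpa using Tb.OM Tb.b (Or.inr rfl) k h⟩

/-- The sum for an element of the split torus. -/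
theorem csum_T {x : 𝔾} (hx : x ∈ punct (T hF)) (g : 𝔾) : csum x g =
    1 + conj ((Tb.St : 𝔾 → ℂ) g) / (8 * (u : ℂ) ^ 2) ^ 2 + part Tb.R0 x g / ((8 * (u : ℂ) ^ 2) ^ 2 + 1) := by
  obtain ⟨ea, eb⟩ := O_T hF D Tb hx
  have zp : part Tb.Rp x g = 0 := Finset.sum_eq_zero fun ψ h => by rw [Tb.zT ψ (Or.inl h) x hx]; simp
  have zm : part Tb.Rm x g = 0 :=
    Finset.sum_eq_zero fun ψ h => by rw [Tb.zT ψ (Or.inr (Or.inl h)) x hx]; simp
  rw [csum_eq hF D Tb, StT_val hF D Tb hx, ea, eb, zp, zm]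
  ring

/-- The sum for an element of the first Singer torus. -/
theorem csum_P {x : 𝔾} (hx : x ∈ punct D.Ap) (g : 𝔾) : csum x g =
    1 + conj ((Tb.St : 𝔾 → ℂ) g) / (8 * (u : ℂ) ^ 2) ^ 2 +
      part Tb.Rp x g / ((8 * (u : ℂ) ^ 2 - 1) * (8 * (u : ℂ) ^ 2 - 4 * u + 1)) +
      (conj ((Tb.a : 𝔾 → ℂ) g) + conj ((Tb.b : 𝔾 → ℂ) g)) / (2 * (u : ℂ) * (8 * (u : ℂ) ^ 2 - 1)) := by
  obtain ⟨ea, eb⟩ := O_P hF D Tb hx
  have z0 : part Tb.R0 x g = 0 := Finset.sum_eq_zero fun ψ h => by rw [Tb.zP ψ (Or.inl h) x hx]; simp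
  have zm : part Tb.Rm x g = 0 := Finset.sum_eq_zero fun ψ h => by rw [Tb.zP ψ (Or.inr h) x hx]; simp
  rw [csum_eq hF D Tb, StP_val hF D Tb hx, ea, eb, z0, zm]
  ring

/-- The sum for an element of the second Singer torus. -/
theorem csum_M {x : 𝔾} (hx : x ∈ punct D.Am) (g : 𝔾) : csum x g =
    1 + conj ((Tb.St : 𝔾 → ℂ) g) / (8 * (u : ℂ) ^ 2) ^ 2 +
      part Tb.Rm x g / ((8 * (u : ℂ) ^ 2 - 1) * (8 * (u : ℂ) ^ 2 + 4 * u + 1)) +
      (conj ((Tb.a : 𝔾 → ℂ) g) + conj ((Tb.b : 𝔾 → ℂ) g)) / (2 * (u : ℂ) * (8 * (u : ℂ) ^ 2 - 1)) := by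
  obtain ⟨ea, eb⟩ := O_M hF D Tb hx
  have z0 : part Tb.R0 x g = 0 := Finset.sum_eq_zero fun ψ h => by rw [Tb.zM ψ (Or.inl h) x hx]; simp
  have zp : part Tb.Rp x g = 0 := Finset.sum_eq_zero fun ψ h => by rw [Tb.zM ψ (Or.inr h) x hx]; simp
  rw [csum_eq hF D Tb, StM_val hF D Tb hx, ea, eb, z0, zp]
  ring

omit Tb in
theorem small_bound {p : ℂ} {c d e B : ℝ} (hd : 0 < d) (hp : ‖p‖ ≤ B) (h : |e| * d + B < d) :
    ‖(e : ℂ) + p / (d : ℂ)‖ < 1 := by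
  refine (norm_add_le _ _).trans_lt ?_
  rw [Complex.norm_real, norm_div, Complex.norm_real, Real.norm_eq_abs, Real.norm_eq_abs, abs_of_pos hd]
  have hle : ‖p‖ / d ≤ B / d := div_le_div_of_nonneg_right hp hd.le
  have : |e| + B / d < 1 := by
    rw [← lt_sub_iff_add_lt', div_lt_iff₀ hd]; nlinarith
  linarith

/-- Both elements semisimple. -/
theorem ne_semisimple {x g : 𝔾}
    (hx : x ∈ punct (T hF) ∨ x ∈ punct D.Ap ∨ x ∈ punct D.Am)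
    (hg : g ∈ punct (T hF) ∨ g ∈ punct D.Ap ∨ g ∈ punct D.Am) : csum x g ≠ 0 := by
  classical
  have hu := uR hF D
  obtain ⟨kt, kp, km⟩ := cardR hF D Tb
  set U : ℝ := (u : ℝ) with hU
  have hQ : (64 : ℝ) ≤ (8 * U ^ 2) ^ 2 := by
    have : 8 ≤ 8 * U ^ 2 := by nlinarith
    nlinarith
  have hQ0 : (0 : ℝ) < 1 / (8 * U ^ 2) ^ 2 := by positivity
  have hQ1 : (1 : ℝ) / (8 * U ^ 2) ^ 2 ≤ 1 / 64 := one_div_le_one_div_of_le (by norm_num) hQ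
  have hD : (14 : ℝ) ≤ 2 * U * (8 * U ^ 2 - 1) := by nlinarith
  have hD1 : (2 : ℝ) / (2 * U * (8 * U ^ 2 - 1)) ≤ 1 / 7 := by
    rw [div_le_iff₀ (by linarith)]; linarith
  have hD0 : (0 : ℝ) < 2 / (2 * U * (8 * U ^ 2 - 1)) := div_pos (by norm_num) (by linarith)
  rcases hx with hx | hx | hx
  · rw [csum_T hF D Tb hx]
    rcases hg with hg | hg | hg
    · rw [StT_val hF D Tb hg, map_one]
      have hb := part_bound hF D Tb (R := Tb.R0) (x := x) (g := g) (c := 8 * U ^ 2 - 3) (t := 3 * U)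
        (by linarith) (by rw [Tb.sq0 x hx, show (8 * U ^ 2 - 3 : ℝ) = (Nat.card (T hF) : ℝ) - 2 by rw [kt]; ring]; push_cast; rfl)
        (by rw [Tb.sq0 g hg, show (8 * U ^ 2 - 3 : ℝ) = (Nat.card (T hF) : ℝ) - 2 by rw [kt]; ring]; push_cast; rfl)
      have hd : (0 : ℝ) < (8 * U ^ 2) ^ 2 + 1 := by positivity
      have h := small_bound hF D (c := 0) (e := 1 / (8 * U ^ 2) ^ 2) hd hb ?_
      · rw [add_assoc]; apply one_add_ne; convert h using 3 <;> rw [hU] <;> push_cast <;> ring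
      · rw [abs_of_pos hQ0]
        have : (8 * U ^ 2 - 3) * (((3 * U) ^ 2 + (8 * U ^ 2 - 3)) / (2 * (3 * U))) ≤ (8 * U ^ 2) * (17 * U / 6) := by
          refine mul_le_mul (by linarith) ?_ (div_nonneg (by nlinarith) (by linarith)) (by positivity)
          rw [div_le_iff₀ (by linarith)]; nlinarith
        nlinarith
    · rw [StP_val hF D Tb hg,
        show part Tb.R0 x g = 0 from Finset.sum_eq_zero fun ψ h => by rw [Tb.zP ψ (Or.inl h) g hg]; simp]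
      rw [show (1 : ℂ) + conj (-1 : ℂ) / (8 * (u : ℂ) ^ 2) ^ 2 + 0 / ((8 * (u : ℂ) ^ 2) ^ 2 + 1) =
        1 + ((-(1 / (8 * U ^ 2) ^ 2) : ℝ) : ℂ) by simp [hU]; ring]
      exact one_add_ne_real (by linarith)
    · rw [StM_val hF D Tb hg,
        show part Tb.R0 x g = 0 from Finset.sum_eq_zero fun ψ h => by rw [Tb.zM ψ (Or.inl h) g hg]; simp]
      rw [show (1 : ℂ) + conj (-1 : ℂ) / (8 * (u : ℂ) ^ 2) ^ 2 + 0 / ((8 * (u : ℂ) ^ 2) ^ 2 + 1) =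
        1 + ((-(1 / (8 * U ^ 2) ^ 2) : ℝ) : ℂ) by simp [hU]; ring]
      exact one_add_ne_real (by linarith)
  · rw [csum_P hF D Tb hx]
    rcases hg with hg | hg | hg
    · obtain ⟨ea, eb⟩ := O_T hF D Tb hg
      rw [StT_val hF D Tb hg, ea, eb, map_one,
        show part Tb.Rp x g = 0 from Finset.sum_eq_zero fun ψ h => by rw [Tb.zT ψ (Or.inl h) g hg]; simp]
      rw [show (1 : ℂ) + 1 / (8 * (u : ℂ) ^ 2) ^ 2 +
          0 / ((8 * (u : ℂ) ^ 2 - 1) * (8 * (u : ℂ) ^ 2 - 4 * u + 1)) +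
          (conj (0 : ℂ) + conj (0 : ℂ)) / (2 * (u : ℂ) * (8 * (u : ℂ) ^ 2 - 1)) =
        1 + (((1 / (8 * U ^ 2) ^ 2) : ℝ) : ℂ) by simp [hU]]
      exact one_add_ne_real (by linarith)
    · obtain ⟨ea, eb⟩ := O_P hF D Tb hg
      rw [StP_val hF D Tb hg, ea, eb, map_one, map_neg, map_one]
      have hb := part_bound hF D Tb (R := Tb.Rp) (x := x) (g := g) (c := 8 * U ^ 2 + 4 * U - 3) (t := 3 * U)
        (by linarith) (by rw [Tb.sqp x hx, show (8 * U ^ 2 + 4 * U - 3 : ℝ) = (Nat.card D.Ap : ℝ) - 4 by rw [kp]; ring]; push_cast; rfl)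
        (by rw [Tb.sqp g hg, show (8 * U ^ 2 + 4 * U - 3 : ℝ) = (Nat.card D.Ap : ℝ) - 4 by rw [kp]; ring]; push_cast; rfl)
      have hd : (0 : ℝ) < (8 * U ^ 2 - 1) * (8 * U ^ 2 - 4 * U + 1) := mul_pos (by nlinarith) (by nlinarith)
      have h := small_bound hF D (c := 0)
        (e := -(1 / (8 * U ^ 2) ^ 2) + 2 / (2 * U * (8 * U ^ 2 - 1))) hd hb ?_
      · rw [show ∀ A B C E : ℂ, A + B + C + E = A + ((B + E) + C) from fun A B C E => by ring]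
        apply one_add_ne; convert h using 3 <;> rw [hU] <;> push_cast <;> ring
      · have he : |-(1 / (8 * U ^ 2) ^ 2) + 2 / (2 * U * (8 * U ^ 2 - 1))| ≤ 1 / 7 := by
          rw [abs_le]; constructor <;> linarith
        have : (8 * U ^ 2 + 4 * U - 3) * (((3 * U) ^ 2 + (8 * U ^ 2 + 4 * U - 3)) / (2 * (3 * U))) <
            6 / 7 * ((8 * U ^ 2 - 1) * (8 * U ^ 2 - 4 * U + 1)) := by
          rw [← mul_div_assoc, div_lt_iff₀ (by linarith)]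
          nlinarith [mul_nonneg (sub_nonneg.mpr hu) (sq_nonneg U), mul_nonneg (sub_nonneg.mpr hu) (pow_nonneg (by linarith : (0:ℝ) ≤ U) 4),
            mul_nonneg (sub_nonneg.mpr hu) (pow_nonneg (by linarith : (0:ℝ) ≤ U) 3)]
        nlinarith [mul_le_mul_of_nonneg_right he hd.le]
    · obtain ⟨ea, eb⟩ := O_M hF D Tb hg
      rw [StM_val hF D Tb hg, ea, eb,
        show part Tb.Rp x g = 0 from Finset.sum_eq_zero fun ψ h => by rw [Tb.zM ψ (Or.inr h) g hg]; simp]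
      rw [show (1 : ℂ) + conj (-1 : ℂ) / (8 * (u : ℂ) ^ 2) ^ 2 +
          0 / ((8 * (u : ℂ) ^ 2 - 1) * (8 * (u : ℂ) ^ 2 - 4 * u + 1)) +
          (conj (-1 : ℂ) + conj (-1 : ℂ)) / (2 * (u : ℂ) * (8 * (u : ℂ) ^ 2 - 1)) =
        1 + (((-(1 / (8 * U ^ 2) ^ 2) - 2 / (2 * U * (8 * U ^ 2 - 1))) : ℝ) : ℂ) by simp [hU]; ring]
      exact one_add_ne_real (by linarith)
  · rw [csum_M hF D Tb hx]
    rcases hg with hg | hg | hg
    · obtain ⟨ea, eb⟩ := O_T hF D Tb hg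
      rw [StT_val hF D Tb hg, ea, eb, map_one,
        show part Tb.Rm x g = 0 from
          Finset.sum_eq_zero fun ψ h => by rw [Tb.zT ψ (Or.inr (Or.inl h)) g hg]; simp]
      rw [show (1 : ℂ) + 1 / (8 * (u : ℂ) ^ 2) ^ 2 +
          0 / ((8 * (u : ℂ) ^ 2 - 1) * (8 * (u : ℂ) ^ 2 + 4 * u + 1)) +
          (conj (0 : ℂ) + conj (0 : ℂ)) / (2 * (u : ℂ) * (8 * (u : ℂ) ^ 2 - 1)) =
        1 + (((1 / (8 * U ^ 2) ^ 2) : ℝ) : ℂ) by simp [hU]]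
      exact one_add_ne_real (by linarith)
    · obtain ⟨ea, eb⟩ := O_P hF D Tb hg
      rw [StP_val hF D Tb hg, ea, eb,
        show part Tb.Rm x g = 0 from Finset.sum_eq_zero fun ψ h => by rw [Tb.zP ψ (Or.inr h) g hg]; simp]
      rw [show (1 : ℂ) + conj (-1 : ℂ) / (8 * (u : ℂ) ^ 2) ^ 2 +
          0 / ((8 * (u : ℂ) ^ 2 - 1) * (8 * (u : ℂ) ^ 2 + 4 * u + 1)) +
          (conj (1 : ℂ) + conj (1 : ℂ)) / (2 * (u : ℂ) * (8 * (u : ℂ) ^ 2 - 1)) =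
        1 + (((-(1 / (8 * U ^ 2) ^ 2) + 2 / (2 * U * (8 * U ^ 2 - 1))) : ℝ) : ℂ) by simp [hU]; ring]
      exact one_add_ne_real (by linarith)
    · obtain ⟨ea, eb⟩ := O_M hF D Tb hg
      rw [StM_val hF D Tb hg, ea, eb, map_neg, map_one]
      have hb := part_bound hF D Tb (R := Tb.Rm) (x := x) (g := g) (c := 8 * U ^ 2 - 4 * U - 3) (t := 3 * U)
        (by linarith) (by rw [Tb.sqm x hx, show (8 * U ^ 2 - 4 * U - 3 : ℝ) = (Nat.card D.Am : ℝ) - 4 by rw [km]; ring]; push_cast; rfl)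
        (by rw [Tb.sqm g hg, show (8 * U ^ 2 - 4 * U - 3 : ℝ) = (Nat.card D.Am : ℝ) - 4 by rw [km]; ring]; push_cast; rfl)
      have hd : (0 : ℝ) < (8 * U ^ 2 - 1) * (8 * U ^ 2 + 4 * U + 1) := mul_pos (by nlinarith) (by nlinarith)
      have h := small_bound hF D (c := 0)
        (e := -(1 / (8 * U ^ 2) ^ 2) - 2 / (2 * U * (8 * U ^ 2 - 1))) hd hb ?_
      · rw [show ∀ A B C E : ℂ, A + B + C + E = A + ((B + E) + C) from fun A B C E => by ring]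
        apply one_add_ne; convert h using 3 <;> rw [hU] <;> push_cast <;> ring
      · have he : |-(1 / (8 * U ^ 2) ^ 2) - 2 / (2 * U * (8 * U ^ 2 - 1))| ≤ 1 / 6 := by
          rw [abs_le]; constructor <;> linarith
        have : (8 * U ^ 2 - 4 * U - 3) * (((3 * U) ^ 2 + (8 * U ^ 2 - 4 * U - 3)) / (2 * (3 * U))) <
            5 / 6 * ((8 * U ^ 2 - 1) * (8 * U ^ 2 + 4 * U + 1)) := by
          rw [← mul_div_assoc, div_lt_iff₀ (by linarith)]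
          nlinarith [mul_nonneg (sub_nonneg.mpr hu) (sq_nonneg U), mul_nonneg (sub_nonneg.mpr hu) (pow_nonneg (by linarith : (0:ℝ) ≤ U) 4),
            mul_nonneg (sub_nonneg.mpr hu) (pow_nonneg (by linarith : (0:ℝ) ≤ U) 3)]
        nlinarith [mul_le_mul_of_nonneg_right he hd.le]

theorem mem_O {ψ : IrrCharacter 𝔾} (h : deg' ψ = 2 * (u : ℤ) * (8 * u ^ 2 - 1)) : ψ = Tb.a ∨ ψ = Tb.b := by
  classical
  have hu : (1 : ℤ) ≤ u := by exact_mod_cast hu1 hF D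
  have hq : (0 : ℤ) < 8 * (u : ℤ) ^ 2 - 1 := by nlinarith
  have h2 := Tb.split fun φ => if φ = ψ then 1 else 0
  simp only [Finset.sum_ite_eq', Finset.mem_univ, if_true] at h2
  by_contra hn
  rw [not_or] at hn
  have e1 : ¬ Tb.one = ψ := fun e => by rw [← e, Tb.done'] at h; nlinarith
  have e2 : ¬ Tb.St = ψ := fun e => by rw [← e, Tb.dSt] at h; nlinarith
  have e3 : ψ ∉ Tb.R0 := fun e => by rw [Tb.d0 ψ e] at h; nlinarith
  have e4 : ψ ∉ Tb.Rp := fun e => by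
    rw [Tb.dp ψ e] at h
    have := mul_right_cancel₀ hq.ne' (show (8 * (u : ℤ) ^ 2 - 4 * u + 1) * (8 * (u : ℤ) ^ 2 - 1) =
      2 * u * (8 * (u : ℤ) ^ 2 - 1) by linarith)
    nlinarith
  have e5 : ψ ∉ Tb.Rm := fun e => by
    rw [Tb.dm ψ e] at h
    have := mul_right_cancel₀ hq.ne' (show (8 * (u : ℤ) ^ 2 + 4 * u + 1) * (8 * (u : ℤ) ^ 2 - 1) =
      2 * u * (8 * (u : ℤ) ^ 2 - 1) by linarith)
    nlinarith
  rw [if_neg e1, if_neg e2, if_neg e3, if_neg e4, if_neg e5, if_neg (Ne.symm hn.1), if_neg (Ne.symm hn.2)] at h2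
  norm_num at h2

theorem s_real (g : 𝔾) : ∃ σ : ℝ, (Tb.a : 𝔾 → ℂ) g + (Tb.b : 𝔾 → ℂ) g = (σ : ℂ) := by
  classical
  refine ⟨((Tb.a : 𝔾 → ℂ) g + (Tb.b : 𝔾 → ℂ) g).re, (Complex.conj_eq_iff_re.mp ?_).symm⟩
  let cc : IrrCharacter 𝔾 → IrrCharacter 𝔾 := fun ψ => ⟨_, isIrrCharacter_conjChar ψ.2⟩
  have hcc : ∀ ψ, cc (cc ψ) = ψ := fun ψ => Subtype.ext (funext fun x => Complex.conj_conj _)
  have hdeg : ∀ ψ, deg' (cc ψ) = deg' ψ := fun ψ => by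
    have h1 := (deg'_spec (cc ψ)).1
    have h2 := (deg'_spec ψ).1
    simp only [cc] at h1
    rw [h2, map_intCast] at h1
    exact_mod_cast h1.symm
  have ha := mem_O hF D Tb ((hdeg Tb.a).trans (Tb.dO Tb.a (Or.inl rfl)))
  have hb := mem_O hF D Tb ((hdeg Tb.b).trans (Tb.dO Tb.b (Or.inr rfl)))
  rw [map_add]
  show (cc Tb.a : 𝔾 → ℂ) g + (cc Tb.b : 𝔾 → ℂ) g = _
  rcases ha with ha | ha <;> rcases hb with hb | hb <;> rw [ha, hb]
  · have : Tb.a = Tb.b := by rw [← hcc Tb.b, hb, ha]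
    rw [this]
  · exact add_comm _ _
  · have : Tb.b = Tb.a := by rw [← hcc Tb.a, ha, hb]
    rw [this]

/-- The range of the sum of the two special values on a unipotent element. -/
theorem s_bounds (hm : 1 ≤ m) {g : 𝔾} (hg : g ∈ conjSet (U hF)) {σ : ℝ}
    (hσ : (Tb.a : 𝔾 → ℂ) g + (Tb.b : 𝔾 → ℂ) g = (σ : ℂ)) : -(4 * (u : ℝ)) ≤ σ ∧ σ < 4 * (u : ℝ) := by
  classical
  have hu := uR hF D
  have h := unip_norm hF D Tb hg
  rw [hσ] at h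
  simp only [← Complex.ofReal_one, ← Complex.ofReal_add, ← Complex.ofReal_sub, Complex.normSq_ofReal] at h
  have hC : (Nat.card (Subgroup.centralizer ({g} : Set 𝔾)) : ℝ) ≤ (8 * (u : ℝ) ^ 2) ^ 2 := by
    obtain ⟨hg1, k, hk⟩ := hg
    obtain ⟨a, b, hab⟩ := hk
    have e : g = k * uS hF a b * k⁻¹ := by rw [← hab]; group
    have hne : uS hF a b ≠ 1 := fun h => hg1 (by rw [e, h, mul_one, mul_inv_cancel])
    have hle := card_centralizer_le hF hm hne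
    rw [D.hu] at hle
    have hcard : Nat.card (Subgroup.centralizer ({g} : Set 𝔾)) =
        Nat.card (Subgroup.centralizer ({uS hF a b} : Set 𝔾)) := by
      refine (Nat.card_congr ((MulAut.conj k).toEquiv.subtypeEquiv fun y => ?_)).symm
      simp only [Subgroup.mem_centralizer_singleton_iff, MulEquiv.toEquiv_eq_coe, EquivLike.coe_coe,
        MulAut.conj_apply, e]
      constructor <;> intro h
      · calc k * y * k⁻¹ * (k * uS hF a b * k⁻¹) = k * (y * uS hF a b) * k⁻¹ := by group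
          _ = k * (uS hF a b * y) * k⁻¹ := by rw [h]
          _ = _ := by group
      · calc y * uS hF a b = k⁻¹ * (k * y * k⁻¹ * (k * uS hF a b * k⁻¹)) * k := by group
          _ = k⁻¹ * (k * uS hF a b * k⁻¹ * (k * y * k⁻¹)) * k := by rw [h]
          _ = _ := by group
    rw [hcard]
    exact_mod_cast hle
  have hab : σ ^ 2 / 2 ≤ Complex.normSq ((Tb.a : 𝔾 → ℂ) g) + Complex.normSq ((Tb.b : 𝔾 → ℂ) g) := by
    have hre := congrArg Complex.re hσ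
    simp only [Complex.add_re, Complex.ofReal_re] at hre
    rw [Complex.normSq_apply, Complex.normSq_apply, ← hre]
    nlinarith [sq_nonneg (((Tb.a : 𝔾 → ℂ) g).re - ((Tb.b : 𝔾 → ℂ) g).re), sq_nonneg ((Tb.a : 𝔾 → ℂ) g).im,
      sq_nonneg ((Tb.b : 𝔾 → ℂ) g).im]
  have hkey : (σ + 4 * (u : ℝ)) * ((4 * (u : ℝ) ^ 2 + 1 / 2) * (σ - 4 * u) + 4 * u) ≤ 0 := by nlinarith
  have hc : (0 : ℝ) < 4 * (u : ℝ) ^ 2 + 1 / 2 := by positivity
  constructor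
  · by_contra hlt
    rw [not_le] at hlt
    nlinarith [mul_pos_of_neg_of_neg (show σ + 4 * (u : ℝ) < 0 by linarith)
      (show (4 * (u : ℝ) ^ 2 + 1 / 2) * (σ - 4 * u) + 4 * u < 0 by nlinarith)]
  · by_contra hlt
    rw [not_lt] at hlt
    nlinarith [mul_pos (show 0 < σ + 4 * (u : ℝ) by linarith)
      (show 0 < (4 * (u : ℝ) ^ 2 + 1 / 2) * (σ - 4 * u) + 4 * u by nlinarith)]

omit Tb in
theorem pos_P {A σ : ℝ} (hA : A = 8 * (u : ℝ) ^ 2 + 4 * u - 3 ∨ A = -4)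
    (h1 : -(4 * (u : ℝ)) ≤ σ) (h2 : σ < 4 * (u : ℝ)) :
    0 < 1 + (A * (-1 - σ) / ((8 * (u : ℝ) ^ 2 - 1) * (8 * (u : ℝ) ^ 2 - 4 * u + 1)) +
      σ / (2 * (u : ℝ) * (8 * (u : ℝ) ^ 2 - 1))) := by
  have hu := uR hF D
  set U : ℝ := (u : ℝ)
  have hq : 0 < 8 * U ^ 2 - 1 := by nlinarith
  have ha : 0 < 8 * U ^ 2 - 4 * U + 1 := by nlinarith
  have hlo : 0 < 2 * U * (8 * U ^ 2 - 1) * (8 * U ^ 2 - 4 * U + 1) + 2 * U * A * (-1 - -(4 * U)) +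
      -(4 * U) * (8 * U ^ 2 - 4 * U + 1) := by
    have e : 2 * U * (8 * U ^ 2 - 1) * (8 * U ^ 2 - 4 * U + 1) + 2 * U * A * (-1 - -(4 * U)) +
      -(4 * U) * (8 * U ^ 2 - 4 * U + 1) = 2 * U * ((8 * U ^ 2 - 3) * (8 * U ^ 2 - 4 * U + 1) + A * (4 * U - 1)) := by ring
    rw [e]
    refine mul_pos (by linarith) ?_
    rcases hA with e | e <;> subst e <;>
      nlinarith [mul_nonneg (sub_nonneg.mpr hu) (sq_nonneg U), mul_nonneg (sub_nonneg.mpr hu) (sub_nonneg.mpr hu)]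
  have hhi : 0 ≤ 2 * U * (8 * U ^ 2 - 1) * (8 * U ^ 2 - 4 * U + 1) + 2 * U * A * (-1 - 4 * U) +
      4 * U * (8 * U ^ 2 - 4 * U + 1) := by
    have e : 2 * U * (8 * U ^ 2 - 1) * (8 * U ^ 2 - 4 * U + 1) + 2 * U * A * (-1 - 4 * U) +
      4 * U * (8 * U ^ 2 - 4 * U + 1) = 2 * U * ((8 * U ^ 2 + 1) * (8 * U ^ 2 - 4 * U + 1) - A * (4 * U + 1)) := by ring
    rw [e]
    refine mul_nonneg (by linarith) ?_
    rcases hA with e | e <;> subst e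
    · have : (8 * U ^ 2 + 1) * (8 * U ^ 2 - 4 * U + 1) - (8 * U ^ 2 + 4 * U - 3) * (4 * U + 1) =
          (U - 1) * (64 * U ^ 3 - 8 * U - 4) := by ring
      rw [this]
      exact mul_nonneg (by linarith) (by nlinarith [mul_nonneg (sub_nonneg.mpr hu) (sq_nonneg U)])
    · nlinarith
  have hM : 0 < 2 * U * (8 * U ^ 2 - 1) * (8 * U ^ 2 - 4 * U + 1) + 2 * U * A * (-1 - σ) +
      σ * (8 * U ^ 2 - 4 * U + 1) := by
    nlinarith [mul_pos (sub_pos.mpr h2) hlo, mul_nonneg (show 0 ≤ σ + 4 * U by linarith) hhi]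
  have e : 1 + (A * (-1 - σ) / ((8 * U ^ 2 - 1) * (8 * U ^ 2 - 4 * U + 1)) + σ / (2 * U * (8 * U ^ 2 - 1))) =
      (2 * U * (8 * U ^ 2 - 1) * (8 * U ^ 2 - 4 * U + 1) + 2 * U * A * (-1 - σ) +
      σ * (8 * U ^ 2 - 4 * U + 1)) / (2 * U * (8 * U ^ 2 - 1) * (8 * U ^ 2 - 4 * U + 1)) := by
    generalize 8 * U ^ 2 - 4 * U + 1 = W at ha ⊢
    generalize 8 * U ^ 2 - 1 = Q at hq ⊢
    have : U ≠ 0 := by linarith
    field_simp; ring
  rw [e]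
  exact div_pos hM (by positivity)

omit Tb in
theorem pos_M {A σ : ℝ} (hA : A = 8 * (u : ℝ) ^ 2 - 4 * u - 3 ∨ A = -4)
    (h1 : -(4 * (u : ℝ)) ≤ σ) (h2 : σ < 4 * (u : ℝ)) :
    0 < 1 + (A * (σ - 1) / ((8 * (u : ℝ) ^ 2 - 1) * (8 * (u : ℝ) ^ 2 + 4 * u + 1)) +
      σ / (2 * (u : ℝ) * (8 * (u : ℝ) ^ 2 - 1))) := by
  have hu := uR hF D
  set U : ℝ := (u : ℝ)
  have hq : 0 < 8 * U ^ 2 - 1 := by nlinarith
  have ha : 0 < 8 * U ^ 2 + 4 * U + 1 := by nlinarith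
  have hlo : 0 < 2 * U * (8 * U ^ 2 - 1) * (8 * U ^ 2 + 4 * U + 1) + 2 * U * A * (-(4 * U) - 1) +
      -(4 * U) * (8 * U ^ 2 + 4 * U + 1) := by
    have e : 2 * U * (8 * U ^ 2 - 1) * (8 * U ^ 2 + 4 * U + 1) + 2 * U * A * (-(4 * U) - 1) +
      -(4 * U) * (8 * U ^ 2 + 4 * U + 1) = 2 * U * ((8 * U ^ 2 - 3) * (8 * U ^ 2 + 4 * U + 1) - A * (4 * U + 1)) := by ring
    rw [e]
    refine mul_pos (by linarith) ?_
    rcases hA with e | e <;> subst e <;>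
      nlinarith [mul_nonneg (sub_nonneg.mpr hu) (sq_nonneg U), mul_nonneg (sub_nonneg.mpr hu) (sub_nonneg.mpr hu)]
  have hhi : 0 ≤ 2 * U * (8 * U ^ 2 - 1) * (8 * U ^ 2 + 4 * U + 1) + 2 * U * A * (4 * U - 1) +
      4 * U * (8 * U ^ 2 + 4 * U + 1) := by
    have e : 2 * U * (8 * U ^ 2 - 1) * (8 * U ^ 2 + 4 * U + 1) + 2 * U * A * (4 * U - 1) +
      4 * U * (8 * U ^ 2 + 4 * U + 1) = 2 * U * ((8 * U ^ 2 + 1) * (8 * U ^ 2 + 4 * U + 1) + A * (4 * U - 1)) := by ring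
    rw [e]
    refine mul_nonneg (by linarith) ?_
    rcases hA with e | e <;> subst e <;>
      nlinarith [mul_nonneg (sub_nonneg.mpr hu) (sq_nonneg U), mul_nonneg (sub_nonneg.mpr hu) (sub_nonneg.mpr hu)]
  have hM : 0 < 2 * U * (8 * U ^ 2 - 1) * (8 * U ^ 2 + 4 * U + 1) + 2 * U * A * (σ - 1) +
      σ * (8 * U ^ 2 + 4 * U + 1) := by
    nlinarith [mul_pos (sub_pos.mpr h2) hlo, mul_nonneg (show 0 ≤ σ + 4 * U by linarith) hhi]
  have e : 1 + (A * (σ - 1) / ((8 * U ^ 2 - 1) * (8 * U ^ 2 + 4 * U + 1)) + σ / (2 * U * (8 * U ^ 2 - 1))) =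
      (2 * U * (8 * U ^ 2 - 1) * (8 * U ^ 2 + 4 * U + 1) + 2 * U * A * (σ - 1) +
      σ * (8 * U ^ 2 + 4 * U + 1)) / (2 * U * (8 * U ^ 2 - 1) * (8 * U ^ 2 + 4 * U + 1)) := by
    generalize 8 * U ^ 2 + 4 * U + 1 = W at ha ⊢
    generalize 8 * U ^ 2 - 1 = Q at hq ⊢
    have : U ≠ 0 := by linarith
    field_simp; ring
  rw [e]
  exact div_pos hM (by positivity)

/-- A Singer element and a unipotent element. -/
theorem ne_singer_unip (hm : 1 ≤ m) {x g : 𝔾} (hx : x ∈ punct D.Ap ∨ x ∈ punct D.Am)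
    (hg : g ∈ conjSet (U hF)) : csum x g ≠ 0 := by
  classical
  obtain ⟨v0, vp, vm⟩ := unip_values hF D Tb hg
  obtain ⟨σ, hσ⟩ := s_real hF D Tb g
  obtain ⟨b1, b2⟩ := s_bounds hF D Tb hm hg hσ
  have hcσ : conj ((Tb.a : 𝔾 → ℂ) g) + conj ((Tb.b : 𝔾 → ℂ) g) = (σ : ℂ) := by
    rw [← map_add, hσ, Complex.conj_ofReal]
  have hsq : ∀ ψ : IrrCharacter 𝔾, (ψ : 𝔾 → ℂ) x * conj ((ψ : 𝔾 → ℂ) x⁻¹) =
      (ψ : 𝔾 → ℂ) x * (ψ : 𝔾 → ℂ) x := fun ψ => by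
    rw [char_apply_inv (isCharacter_of_irr ψ.2), Complex.conj_conj]
  rcases hx with hx | hx
  · obtain ⟨hxK, hx1⟩ := mem_punct.mp hx
    have hc := col hF D Tb x x⁻¹
    simp only [hsq] at hc
    obtain ⟨ea, eb⟩ := O_P hF D Tb hx
    rw [D.cp x hxK hx1, StP_val hF D Tb hx, ea, eb,
      Finset.sum_eq_zero (s := Tb.R0) fun ψ h => by rw [Tb.zP ψ (Or.inl h) x hx]; simp,
      Finset.sum_eq_zero (s := Tb.Rm) fun ψ h => by rw [Tb.zP ψ (Or.inr h) x hx]; simp] at hc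
    have hpart : part Tb.Rp x g = (∑ ψ ∈ Tb.Rp, (ψ : 𝔾 → ℂ) x * (ψ : 𝔾 → ℂ) x) * ((-1 - σ : ℝ) : ℂ) := by
      rw [part, Finset.sum_mul]
      refine Finset.sum_congr rfl fun ψ h => ?_
      rw [vp ψ h, hσ]
      simp
    obtain ⟨A, hA, hA'⟩ : ∃ A : ℝ, (∑ ψ ∈ Tb.Rp, (ψ : 𝔾 → ℂ) x * (ψ : 𝔾 → ℂ) x) = (A : ℂ) ∧
        (A = 8 * (u : ℝ) ^ 2 + 4 * u - 3 ∨ A = -4) := by
      have kp := (cardR hF D Tb).2.1
      split at hc
      · refine ⟨(Nat.card D.Ap : ℝ) - 4, ?_, Or.inl (by rw [kp]; ring)⟩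
        push_cast; linear_combination hc
      · exact ⟨-4, by push_cast; linear_combination hc, Or.inr rfl⟩
    rw [csum_P hF D Tb hx, Tb.StU g hg, hpart, hA, hcσ, map_zero, zero_div, add_zero, add_assoc]
    have h := one_add_ne_real (pos_P hF D hA' b1 b2)
    push_cast at h ⊢
    exact h
  · obtain ⟨hxK, hx1⟩ := mem_punct.mp hx
    have hc := col hF D Tb x x⁻¹
    simp only [hsq] at hc
    obtain ⟨ea, eb⟩ := O_M hF D Tb hx
    rw [D.cm x hxK hx1, StM_val hF D Tb hx, ea, eb,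
      Finset.sum_eq_zero (s := Tb.R0) fun ψ h => by rw [Tb.zM ψ (Or.inl h) x hx]; simp,
      Finset.sum_eq_zero (s := Tb.Rp) fun ψ h => by rw [Tb.zM ψ (Or.inr h) x hx]; simp] at hc
    have hpart : part Tb.Rm x g = (∑ ψ ∈ Tb.Rm, (ψ : 𝔾 → ℂ) x * (ψ : 𝔾 → ℂ) x) * ((σ - 1 : ℝ) : ℂ) := by
      rw [part, Finset.sum_mul]
      refine Finset.sum_congr rfl fun ψ h => ?_
      rw [vm ψ h, hσ]
      simp
    obtain ⟨A, hA, hA'⟩ : ∃ A : ℝ, (∑ ψ ∈ Tb.Rm, (ψ : 𝔾 → ℂ) x * (ψ : 𝔾 → ℂ) x) = (A : ℂ) ∧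
        (A = 8 * (u : ℝ) ^ 2 - 4 * u - 3 ∨ A = -4) := by
      have km := (cardR hF D Tb).2.2
      split at hc
      · refine ⟨(Nat.card D.Am : ℝ) - 4, ?_, Or.inl (by rw [km]; ring)⟩
        push_cast; linear_combination hc
      · exact ⟨-4, by push_cast; linear_combination hc, Or.inr rfl⟩
    rw [csum_M hF D Tb hx, Tb.StU g hg, hpart, hA, hcσ, map_zero, zero_div, add_zero, add_assoc]
    have h := one_add_ne_real (pos_M hF D hA' b1 b2)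
    push_cast at h ⊢
    exact h

/-- An element of order four and a semisimple element. -/
theorem ne_four_semisimple (hm : 1 ≤ m) {a b : F} (ha : a ≠ 0) {g : 𝔾}
    (hg : g ∈ punct (T hF) ∨ g ∈ punct D.Ap ∨ g ∈ punct D.Am) : csum (uS hF a b) g ≠ 0 := by
  classical
  have hu := uR hF D
  set x := uS hF a b with hx
  have hxU : x ∈ conjSet (U hF) :=
    ⟨fun h => ha (uS_inj hF (h.trans (uS_zero hF).symm)).1, 1, by simp only [inv_one, one_mul, mul_one]; exact ⟨a, b, rfl⟩⟩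
  obtain ⟨v0, vp, vm⟩ := unip_values hF D Tb hxU
  set s := (Tb.a : 𝔾 → ℂ) x + (Tb.b : 𝔾 → ℂ) x with hs
  have hn := unip_norm hF D Tb hxU
  rw [← hs] at hn
  have hC : (Nat.card (Subgroup.centralizer ({x} : Set 𝔾)) : ℝ) ≤ 2 * (8 * (u : ℝ) ^ 2) := by
    have h := card_centralizer_four_le hF hm (b := b) ha
    rw [D.hu] at h
    exact_mod_cast h
  have hSt : (Tb.St : 𝔾 → ℂ) x = 0 := Tb.StU x hxU
  set U : ℝ := (u : ℝ) with hU
  have hq : (0 : ℝ) < 8 * U ^ 2 - 1 := by nlinarith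
  have hpa : (0 : ℝ) ≤ Complex.normSq ((Tb.a : 𝔾 → ℂ) x) := Complex.normSq_nonneg _
  have hpb : (0 : ℝ) ≤ Complex.normSq ((Tb.b : 𝔾 → ℂ) x) := Complex.normSq_nonneg _
  have hp1 : (0 : ℝ) ≤ Complex.normSq (1 + s) := Complex.normSq_nonneg _
  have hp2 : (0 : ℝ) ≤ Complex.normSq (s - 1) := Complex.normSq_nonneg _
  rw [csum_eq hF D Tb, hSt]
  have partc : ∀ (R : Finset (IrrCharacter 𝔾)) (v : ℂ), (∀ ψ ∈ R, (ψ : 𝔾 → ℂ) x = v) →
      part R x g = v * v * conj (∑ ψ ∈ R, (ψ : 𝔾 → ℂ) g) := fun R v h => by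
    rw [part, map_sum, Finset.mul_sum]
    exact Finset.sum_congr rfl fun ψ hψ => by rw [h ψ hψ]
  rw [partc _ _ v0, partc _ _ vp, partc _ _ vm]
  rcases hg with hg | hg | hg
  · obtain ⟨ea, eb⟩ := O_T hF D Tb hg
    rw [Tb.sum0 g hg, ea, eb, Finset.sum_eq_zero (s := Tb.Rp) fun ψ h => by rw [Tb.zT ψ (Or.inl h) g hg]; simp,
      Finset.sum_eq_zero (s := Tb.Rm) fun ψ h => by rw [Tb.zT ψ (Or.inr (Or.inl h)) g hg]; simp]
    have hlt : (0 : ℝ) < 1 + -(1 / ((8 * U ^ 2) ^ 2 + 1)) := by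
      have : 1 / ((8 * U ^ 2) ^ 2 + 1) < 1 := by
        rw [div_lt_one (by positivity)]; nlinarith
      linarith
    have h := one_add_ne_real hlt
    convert h using 1
    simp [hU]
    ring
  · obtain ⟨ea, eb⟩ := O_P hF D Tb hg
    rw [Tb.sump g hg, ea, eb, Finset.sum_eq_zero (s := Tb.R0) fun ψ h => by rw [Tb.zP ψ (Or.inl h) g hg]; simp,
      Finset.sum_eq_zero (s := Tb.Rm) fun ψ h => by rw [Tb.zP ψ (Or.inr h) g hg]; simp]
    simp only [map_one, map_zero, mul_zero, zero_mul, zero_div, add_zero, mul_one]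
    have hd : (0 : ℝ) < (8 * U ^ 2 - 1) * (8 * U ^ 2 - 4 * U + 1) := mul_pos hq (by nlinarith)
    have hDd : (0 : ℝ) < 2 * U * (8 * U ^ 2 - 1) := mul_pos (by linarith) hq
    rw [add_assoc]
    apply one_add_ne
    refine (norm_add_le _ _).trans_lt ?_
    rw [norm_div, norm_div, norm_mul, ← sq, ← Complex.normSq_eq_norm_sq,
      show ((8 * (u : ℂ) ^ 2 - 1) * (8 * (u : ℂ) ^ 2 - 4 * u + 1)) =
        (((8 * U ^ 2 - 1) * (8 * U ^ 2 - 4 * U + 1) : ℝ) : ℂ) by push_cast [hU]; rfl,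
      show (2 * (u : ℂ) * (8 * (u : ℂ) ^ 2 - 1)) = ((2 * U * (8 * U ^ 2 - 1) : ℝ) : ℂ) by push_cast [hU]; rfl,
      Complex.norm_real, Complex.norm_real, Real.norm_eq_abs, Real.norm_eq_abs, abs_of_pos hd, abs_of_pos hDd,
      show Complex.normSq (-1 - s) = Complex.normSq (1 + s) by rw [← Complex.normSq_neg]; congr 1; ring]
    have hab : ‖(Tb.a : 𝔾 → ℂ) x * (Tb.a : 𝔾 → ℂ) x + (Tb.b : 𝔾 → ℂ) x * (Tb.b : 𝔾 → ℂ) x‖ ≤
        Complex.normSq ((Tb.a : 𝔾 → ℂ) x) + Complex.normSq ((Tb.b : 𝔾 → ℂ) x) := by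
      refine (norm_add_le _ _).trans (le_of_eq ?_)
      rw [norm_mul, norm_mul, Complex.normSq_eq_norm_sq, Complex.normSq_eq_norm_sq, sq, sq]
    have hP : Complex.normSq (1 + s) / ((8 * U ^ 2 - 1) * (8 * U ^ 2 - 4 * U + 1)) ≤
        (2 * U ^ 2 + U) * Complex.normSq (1 + s) / (2 * U * (8 * U ^ 2 - 1)) := by
      rw [div_le_div_iff₀ hd hDd]
      have hw : 2 * U * (8 * U ^ 2 - 1) ≤ (2 * U ^ 2 + U) * ((8 * U ^ 2 - 1) * (8 * U ^ 2 - 4 * U + 1)) := by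
        have : 2 * U ≤ (2 * U ^ 2 + U) * (8 * U ^ 2 - 4 * U + 1) := by
          nlinarith [mul_le_mul (show 3 ≤ 2 * U ^ 2 + U by nlinarith) (show 1 ≤ 8 * U ^ 2 - 4 * U + 1 by nlinarith)
            zero_le_one (by nlinarith)]
        nlinarith [mul_le_mul_of_nonneg_right this hq.le]
      nlinarith [mul_le_mul_of_nonneg_left hw hp1]
    refine lt_of_le_of_lt (add_le_add hP (div_le_div_of_nonneg_right hab hDd.le)) ?_
    rw [← add_div, div_lt_one hDd]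
    nlinarith [mul_nonneg (show 0 ≤ 2 * U ^ 2 - U by nlinarith) hp2]
  · obtain ⟨ea, eb⟩ := O_M hF D Tb hg
    rw [Tb.summ g hg, ea, eb, Finset.sum_eq_zero (s := Tb.R0) fun ψ h => by rw [Tb.zM ψ (Or.inl h) g hg]; simp,
      Finset.sum_eq_zero (s := Tb.Rp) fun ψ h => by rw [Tb.zM ψ (Or.inr h) g hg]; simp]
    simp only [map_one, map_zero, map_neg, mul_zero, zero_mul, zero_div, add_zero, mul_one]
    have hd : (0 : ℝ) < (8 * U ^ 2 - 1) * (8 * U ^ 2 + 4 * U + 1) := mul_pos hq (by nlinarith)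
    have hDd : (0 : ℝ) < 2 * U * (8 * U ^ 2 - 1) := mul_pos (by linarith) hq
    rw [add_assoc]
    apply one_add_ne
    refine (norm_add_le _ _).trans_lt ?_
    rw [norm_div, norm_div, norm_mul, ← sq, ← Complex.normSq_eq_norm_sq,
      show ((8 * (u : ℂ) ^ 2 - 1) * (8 * (u : ℂ) ^ 2 + 4 * u + 1)) =
        (((8 * U ^ 2 - 1) * (8 * U ^ 2 + 4 * U + 1) : ℝ) : ℂ) by push_cast [hU]; rfl,
      show (2 * (u : ℂ) * (8 * (u : ℂ) ^ 2 - 1)) = ((2 * U * (8 * U ^ 2 - 1) : ℝ) : ℂ) by push_cast [hU]; rfl,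
      Complex.norm_real, Complex.norm_real, Real.norm_eq_abs, Real.norm_eq_abs, abs_of_pos hd, abs_of_pos hDd]
    have hab : ‖(Tb.a : 𝔾 → ℂ) x * (Tb.a : 𝔾 → ℂ) x * -1 + (Tb.b : 𝔾 → ℂ) x * (Tb.b : 𝔾 → ℂ) x * -1‖ ≤
        Complex.normSq ((Tb.a : 𝔾 → ℂ) x) + Complex.normSq ((Tb.b : 𝔾 → ℂ) x) := by
      refine (norm_add_le _ _).trans (le_of_eq ?_)
      simp only [mul_neg, mul_one, norm_neg]
      rw [norm_mul, norm_mul, Complex.normSq_eq_norm_sq, Complex.normSq_eq_norm_sq, sq, sq]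
    have hP : Complex.normSq (s - 1) / ((8 * U ^ 2 - 1) * (8 * U ^ 2 + 4 * U + 1)) ≤
        (2 * U ^ 2 - U) * Complex.normSq (s - 1) / (2 * U * (8 * U ^ 2 - 1)) := by
      rw [div_le_div_iff₀ hd hDd]
      have hw : 2 * U * (8 * U ^ 2 - 1) ≤ (2 * U ^ 2 - U) * ((8 * U ^ 2 - 1) * (8 * U ^ 2 + 4 * U + 1)) := by
        have : 2 * U ≤ (2 * U ^ 2 - U) * (8 * U ^ 2 + 4 * U + 1) := by
          nlinarith [mul_le_mul (show U ≤ 2 * U ^ 2 - U by nlinarith) (show 2 ≤ 8 * U ^ 2 + 4 * U + 1 by nlinarith)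
            (by norm_num) (by nlinarith)]
        nlinarith [mul_le_mul_of_nonneg_right this hq.le]
      nlinarith [mul_le_mul_of_nonneg_left hw hp2]
    refine lt_of_le_of_lt (add_le_add hP (div_le_div_of_nonneg_right hab hDd.le)) ?_
    rw [← add_div, div_lt_one hDd]
    nlinarith [mul_nonneg (show 0 ≤ 2 * U ^ 2 + U by nlinarith) hp1]

end CfsgLib.Suzuki.ClassSquares
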