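/-
The square of a class of elements of order greater than two in a Suzuki group.
-/
import Cfsg.Agent.Lib.Suzuki.ClassSquares.Cases

namespace CfsgLib.Suzuki.ClassSquares

open Cfsg CfsgLib.Suzuki CfsgLib.Suzuki.Degrees

variable {F : Type*} [Field F] [Fintype F] {m : ℕ} (hF : Fintype.card F = 2 ^ (2 * m + 1))

set_option quotPrecheck false in
local notation "𝔾" => ↥(Cfsg.Sz F m)

include hF

theorem sq_all (hm : 1 ≤ m) {x g : 𝔾} (hx : 2 < orderOf x) (hg : g ≠ 1) : Sq x g := by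
  classical
  have : Fintype 𝔾 := Fintype.ofFinite _
  obtain ⟨u, -, ⟨D⟩⟩ := exists_tori hF hm
  obtain ⟨Tb⟩ := exists_table hF D
  have hx1 : x ≠ 1 := fun e => by rw [e, orderOf_one] at hx; omega
  have red : ∀ {K : Subgroup 𝔾} {z : 𝔾}, z ∈ conjSet K → ∃ c k : 𝔾, k ∈ punct K ∧ z = c * k * c⁻¹ := by
    rintro K z ⟨hz, c, hc⟩
    refine ⟨c, c⁻¹ * z * c, mem_punct.mpr ⟨hc, fun e => hz ?_⟩, by group⟩
    have := congrArg (fun w => c * w * c⁻¹) e
    simpa [mul_assoc] using this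
  have classify : ∀ z : 𝔾, z ≠ 1 → ∃ c k : 𝔾, z = c * k * c⁻¹ ∧
      ((∃ d e : F, k = uS hF d e ∧ (d ≠ 0 ∨ e ≠ 0)) ∨ k ∈ punct (T hF) ∨ k ∈ punct D.Ap ∨ k ∈ punct D.Am) := by
    intro z hz
    rcases conjSet_iff hF D z with h | h | h | h | h
    · exact absurd h hz
    · obtain ⟨c, k, hk, rfl⟩ := red h
      obtain ⟨⟨d, e, rfl⟩, hk1⟩ := mem_punct.mp hk
      refine ⟨c, _, rfl, Or.inl ⟨d, e, rfl, ?_⟩⟩
      by_contra hn
      rw [not_or, not_not, not_not] at hn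
      exact hk1 (by rw [hn.1, hn.2, uS_zero])
    · obtain ⟨c, k, hk, rfl⟩ := red h; exact ⟨c, k, rfl, Or.inr (Or.inl hk)⟩
    · obtain ⟨c, k, hk, rfl⟩ := red h; exact ⟨c, k, rfl, Or.inr (Or.inr (Or.inl hk))⟩
    · obtain ⟨c, k, hk, rfl⟩ := red h; exact ⟨c, k, rfl, Or.inr (Or.inr (Or.inr hk))⟩
  obtain ⟨c, x', rfl, hx'⟩ := classify x hx1
  obtain ⟨d, g', rfl, hg'⟩ := classify g hg
  refine (Sq.conj_left ?_ c).conj_right d
  rcases hx' with ⟨a, b, rfl, -⟩ | hx'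
  · have ha : a ≠ 0 := by
      rintro rfl
      have h2 : uS hF (0 : F) b * uS hF 0 b = 1 := by rw [uS_sq]; simp [uS_zero]
      have h3 : (c * uS hF (0 : F) b * c⁻¹) ^ 2 = 1 := by
        rw [sq, show c * uS hF (0 : F) b * c⁻¹ * (c * uS hF 0 b * c⁻¹) = c * (uS hF 0 b * uS hF 0 b) * c⁻¹ by group,
          h2, mul_one, mul_inv_cancel]
      have := Nat.le_of_dvd two_pos (orderOf_dvd_of_pow_eq_one h3)
      omega
    rcases hg' with ⟨e, f, rfl, hef⟩ | hg'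
    · exact sq_U_U hF hm ha hef
    · exact sq_of_csum_ne (ne_four_semisimple hF D Tb hm ha hg')
  · rcases hg' with ⟨e, f, rfl, hef⟩ | hg'
    · have hgU : uS hF e f ∈ conjSet (U hF) := by
        refine ⟨fun h => ?_, 1, by simp only [inv_one, one_mul, mul_one]; exact ⟨e, f, rfl⟩⟩
        obtain ⟨h1, h2⟩ := uS_inj hF (h.trans (uS_zero hF).symm)
        exact hef.elim (fun h => h h1) fun h => h h2
      rcases hx' with hx' | hx'
      · obtain ⟨hT, h1⟩ := mem_punct.mp hx'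
        obtain ⟨t, rfl⟩ := (mem_T hF).mp hT
        exact sq_T_U hF hm (fun e => h1 (by rw [e, dS_one])) e f
      · exact sq_of_csum_ne (ne_singer_unip hF D Tb hm hx' hgU)
    · exact sq_of_csum_ne (ne_semisimple hF D Tb hx' hg')

end CfsgLib.Suzuki.ClassSquares
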